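import Cfsg.Agent.Lib.Oct.CD
import Cfsg.Agent.Lib.Orth.Finite

/-!
# Semisimple elements of `G₂` fix an idempotent (over an extension field); involutions
-/

set_option autoImplicit false

namespace Cfsg.Lib.Oct
open Module Cfsg.Lie Matrix Polynomial
open scoped MatrixGroups

variable {F : Type*} [Field F]

theorem tr_omul_cj (x y : Fin 8 → F) : tr (x ⋆ cj y) = bl x y := by
  obtain ⟨_, _, _, _, rfl⟩ := exists_mk x
  obtain ⟨_, _, _, _, rfl⟩ := exists_mk y
  simp [cj_mk, mk_mul]; ring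

theorem bl_omul (x y z : Fin 8 → F) : bl (x ⋆ y) (x ⋆ z) = nm x * bl y z := by
  have := nm_omul x (y + z)
  rw [omul_add, nm_add, nm_add, nm_omul, nm_omul] at this
  linear_combination this

theorem exists_idem_of_eigen {s : G2 F} {m : ℕ} (hs : s ^ m = 1) (hm : (m : F) ≠ 0) {x : Fin 8 → F}
    (hx : x ≠ 0) (hn : nm x = 0) {c : F} (h : s • x = c • x) : ∃ e : Fin 8 → F, Idem e ∧ s • e = e := by
  obtain ⟨y, hy⟩ : ∃ y, bl x y ≠ 0 := not_forall.1 (mt eq_zero_of_bl hx)
  have h1 : ∀ i : ℕ, s ^ i • x = c ^ i • x := fun i => by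
    induction i with
    | zero => simp
    | succ i ih => rw [pow_succ', mul_smul, ih, smul_smul', h, smul_smul, pow_succ]
  refine ⟨(m * bl x y)⁻¹ • ∑ i ∈ .range m, s ^ i • (x ⋆ cj y), ⟨?_, ?_⟩, ?_⟩
  · simp [tr_omul_cj, mul_inv_cancel₀, hm, hy]; field_simp
  · have : ∑ i ∈ .range m, s ^ i • (x ⋆ cj y) = x ⋆ ∑ i ∈ .range m, c ^ i • s ^ i • cj y := by
      rw [← mulL_apply x (∑ _ ∈ _, _), map_sum]; simp [smul_omul_smul, h1, smul_omul]
    rw [this, nm_smul, nm_omul, hn]; simp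
  · rw [smul_smul', Finset.smul_sum]
    refine congrArg _ (add_right_cancel (b := s ^ 0 • (x ⋆ cj y)) ?_)
    simp only [← mul_smul, ← pow_succ']
    rw [← Finset.sum_range_succ' fun i => s ^ i • (x ⋆ cj y), Finset.sum_range_succ, hs, pow_zero]

theorem exists_eigen_of_invol [Finite F] (h2 : (2 : F) ≠ 0) {t : G2 F} (ht : t ^ 2 = 1) (h1 : t ≠ 1) :
    ∃ x : Fin 8 → F, x ≠ 0 ∧ nm x = 0 ∧ t • x = (-1 : F) • x := by
  have htt : ∀ x : Fin 8 → F, t • t • x = x := fun x => by rw [← mul_smul, ← sq, ht, one_smul]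
  have hm : ∀ (c : F) x, x ∈ (lin t).eigenspace c ↔ t • x = c • x := fun c x => End.mem_eigenspace_iff
  obtain ⟨y, hy⟩ : ∃ y : Fin 8 → F, t • y ≠ y := not_forall.1 fun h => h1 (G2_ext fun x => by simp [h])
  have hx : t • (y - t • y) = (-1 : F) • (y - t • y) := by simp [smul_sub, htt, ← sub_eq_neg_add]
  by_cases hn : nm (y - t • y) = 0
  · exact ⟨_, sub_ne_zero.2 hy.symm, hn, hx⟩
  have h3 := LinearMap.finrank_le_finrank_of_injective (f := (mulL (y - t • y)).restrict
    (p := (lin t).eigenspace 1) (q := (lin t).eigenspace (-1)) fun z hz => by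
      rw [hm] at hz ⊢; rw [mulL_apply, smul_omul_smul, hx, hz, one_smul, smul_omul])
    ((injective_iff_map_eq_zero _).2 fun z hz => Subtype.ext (eq_zero_of_bl fun w => by
      have := bl_omul (y - t • y) z w
      rw [show _ ⋆ z.1 = 0 from congrArg Subtype.val hz] at this
      simpa [hn] using this))
  have h4 : (lin t).eigenspace 1 ⊔ (lin t).eigenspace (-1) = ⊤ := eq_top_iff.2 fun z _ =>
    Submodule.mem_sup.2 ⟨(2 : F)⁻¹ • (z + t • z), (hm _ _).2 (by simp [smul_smul', htt, add_comm]),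
      (2 : F)⁻¹ • (z - t • z), (hm _ _).2 (by simp [smul_smul', smul_sub, htt, ← sub_eq_neg_add]),
      by rw [← smul_add, add_add_sub_cancel, ← two_smul F, inv_smul_smul₀ h2]⟩
  have h5 := Submodule.finrank_add_le_finrank_add_finrank ((lin t).eigenspace 1) ((lin t).eigenspace (-1))
  rw [h4, finrank_top, finrank_fin_fun] at h5
  obtain ⟨v, hv, h0, h⟩ := Orth.exists_singular_mem (bl (R := F)).toQuadraticMap ((lin t).eigenspace (-1))
    (by omega)
  exact ⟨v, h0, by simpa [bl_self, h2] using h, (hm _ _).1 hv⟩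

theorem exists_eigen_of_isAlgClosed [IsAlgClosed F] {s : G2 F} {m : ℕ} (hs : s ^ m = 1) (hm : (m : F) ≠ 0)
    (h1 : s ^ 2 ≠ 1) : ∃ (x : Fin 8 → F) (c : F), x ≠ 0 ∧ nm x = 0 ∧ s • x = c • x := by
  by_contra! H
  have := (GLC.isSemisimple_of_pow_eq (f := lin s) hm one_ne_zero
    (by rw [← map_pow, hs, map_one, one_smul])).iSup_eigenspace_eq_top
  refine h1 (G2_ext fun x => Submodule.iSup_induction _ (motive := fun x => s ^ 2 • x = (1 : G2 F) • x)
    (this ▸ Submodule.mem_top (x := x)) (fun c x hx => ?_) (by simp) fun x y hx hy => by simp_all)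
  have hx : s • x = c • x := End.mem_eigenspace_iff.1 hx
  by_cases h0 : x = 0
  · simp [h0]
  have h2 := nm_smul' s x
  rw [hx, nm_smul, mul_left_eq_self₀, or_iff_left fun e => H x c h0 e hx] at h2
  rw [sq, mul_smul, hx, smul_smul', hx, smul_smul, ← sq, h2, one_smul, one_smul]

theorem Idem.comp {K : Type*} [Field K] (φ : F →+* K) {x : Fin 8 → F} (h : Idem x) : Idem (φ ∘ x) :=
  ⟨by rw [tr_comp, h.1, map_one], by rw [nm_comp, h.2, map_zero]⟩

theorem Idem.exists_conj {s : G2 F} {e : Fin 8 → F} (he : Idem e) (h : s • e = e) :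
    ∃ g D, g * s * g⁻¹ = sl D := by
  obtain ⟨g, hg⟩ := he.exists_smul'
  obtain ⟨D, hD⟩ := exists_eq_sl (g := g * s * g⁻¹) (by rw [← hg, mul_smul, mul_smul, inv_smul_smul, h])
  exact ⟨g, D, hD.symm⟩

/-- A semisimple element is conjugate into `SL₃` over the algebraic closure. -/
theorem exists_conj_sl [Finite F] {K : Type*} [Field K] [IsAlgClosed K] (φ : F →+* K) {s : G2 F} {m : ℕ}
    (hs : s ^ m = 1) (hm : (m : F) ≠ 0) : ∃ g D, g * mapG φ s * g⁻¹ = sl D := by
  by_cases h1 : s = 1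
  · exact ⟨1, 1, by simp [h1]⟩
  by_cases h2 : s ^ 2 = 1
  · have h3 : (2 : F) ≠ 0 := fun h => by
      haveI : CharP F 2 := ringChar.of_eq (CharP.ringChar_of_prime_eq_zero Nat.prime_two h)
      exact hm ((CharP.cast_eq_zero_iff F 2 m).2 (orderOf_eq_prime h2 h1 ▸ orderOf_dvd_of_pow_eq_one hs))
    obtain ⟨x, hx, hn, h⟩ := exists_eigen_of_invol h3 h2 h1
    obtain ⟨e, he, h⟩ := exists_idem_of_eigen hs hm hx hn h
    exact (he.comp φ).exists_conj (by rw [mapG_smul, h])
  have hs' : mapG φ s ^ m = 1 := by rw [← map_pow, hs, map_one]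
  have hm' : (m : K) ≠ 0 := by rwa [← map_natCast φ, _root_.map_ne_zero]
  obtain ⟨x, c, hx, hn, h⟩ := exists_eigen_of_isAlgClosed hs' hm'
    (by rwa [← map_pow, Ne, map_eq_one_iff _ (mapG_injective φ)])
  obtain ⟨e, he, h⟩ := exists_idem_of_eigen hs' hm' hx hn h
  exact he.exists_conj h

theorem coe_inv' {n : Type*} [Fintype n] [DecidableEq n] (A : SpecialLinearGroup n F) :
    (A⁻¹).1 = adjugate A.1 := rfl

theorem coe_pow' {n : Type*} [Fintype n] [DecidableEq n] (A : SpecialLinearGroup n F) (k : ℕ) :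
    (A ^ k).1 = A.1 ^ k := rfl

theorem charpoly3 (A : SL(3, F)) :
    A.1.charpoly = X ^ 3 - C A.1.trace * X ^ 2 + C (A⁻¹).1.trace * X - 1 := by
  have h := congrArg C A.2
  rw [det_fin_three] at h
  rw [charpoly, det_fin_three, coe_inv', adjugate_fin_three]
  simp [charmatrix_apply, trace_fin_three] at h ⊢
  linear_combination -h

theorem det_sub_one (A : SL(3, F)) : (A.1 - 1).det = A.1.trace - (A⁻¹).1.trace := by
  have h := A.2
  rw [det_fin_three] at h
  rw [det_fin_three, coe_inv', adjugate_fin_three]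
  simp [trace_fin_three]
  linear_combination h

theorem trace_ctr (A : SL(3, F)) : (ctr A).1.trace = (A⁻¹).1.trace := trace_transpose _

theorem trace_eq_of_isConj {n : Type*} [Fintype n] [DecidableEq n] {A B : SpecialLinearGroup n F}
    (h : IsConj A B) : A.1.trace = B.1.trace := by
  obtain ⟨g, rfl⟩ := isConj_iff.1 h
  change _ = (g.1 * A.1 * (g⁻¹).1).trace
  rw [trace_mul_cycle, Linear.SL_coe_inv_mul, one_mul]

theorem det_ctr_sub_one (A : SL(3, F)) : ((ctr A).1 - 1).det = -(A.1 - 1).det := by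
  rw [det_sub_one, det_sub_one, ← map_inv, trace_ctr, trace_ctr, inv_inv, neg_sub]

theorem Idem.eq_of_sl_smul {x : Fin 8 → F} (hx : Idem x) {D : SL(3, F)} (hD : (D.1 - 1).det ≠ 0)
    (h : sl D • x = x) : x = e0 F ∨ x = e7 F := by
  obtain ⟨α, a, b, β, rfl⟩ := exists_mk x
  rw [sl_smul_mk, mk_inj] at h
  have ha : a = 0 := eq_zero_of_mulVec_eq_zero hD (by rw [sub_mulVec, h.2.1, one_mulVec, sub_self])
  have hb : b = 0 := eq_zero_of_mulVec_eq_zero (M := (ctr D).1 - 1) (by rwa [det_ctr_sub_one, neg_ne_zero])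
    (by rw [sub_mulVec, h.2.2.1, one_mulVec, sub_self])
  have h2 : α * β = 0 := by simpa [ha] using hx.2
  have h3 : α + β = 1 := by simpa using hx.1
  rcases mul_eq_zero.1 h2 with rfl | rfl
  · exact .inr (by simpa [ha, hb, e7] using h3)
  · exact .inl (by simpa [ha, hb, e0] using h3)

theorem isConj_or_of_conj {n : G2 F} (hn : n • e0 F = e0 F ∨ n • e0 F = e7 F) {A B : SL(3, F)}
    (h : n * sl A * n⁻¹ = sl B) :
    (n • e0 F = e0 F ∧ IsConj A B) ∨ (n • e0 F = e7 F ∧ IsConj (ctr A) B) := by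
  refine hn.imp (fun e => ⟨e, ?_⟩) fun e => ⟨e, ?_⟩
  · obtain ⟨M, rfl⟩ := exists_eq_sl e
    exact isConj_iff.2 ⟨M, sl_injective (by simpa using h)⟩
  · obtain ⟨M, rfl⟩ := exists_eq_sl_mul e
    exact isConj_iff.2 ⟨M, sl_injective (by simpa [← w0_conj_sl, mul_assoc] using h)⟩

theorem isConj_or_of_conj' {n : G2 F} {A B : SL(3, F)} (hB : (B.1 - 1).det ≠ 0) (h : n * sl A * n⁻¹ = sl B) :
    (n • e0 F = e0 F ∧ IsConj A B) ∨ (n • e0 F = e7 F ∧ IsConj (ctr A) B) :=
  isConj_or_of_conj ((idem_e0.smul n).eq_of_sl_smul hB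
    (by rw [← h, mul_smul, inv_smul_smul, mul_smul, sl_smul_e0])) h

theorem exists_sl_of_commute {g : G2 F} {D : SL(3, F)} (hD : (D.1 - 1).det ≠ 0) (h : Commute g (sl D)) :
    ∃ B, sl B = g := by
  rcases isConj_or_of_conj' hD h.mul_inv_cancel with ⟨e, -⟩ | ⟨-, e⟩
  · exact exists_eq_sl e
  · exact (hD (by rw [det_sub_one, ← trace_eq_of_isConj e, trace_ctr, sub_self])).elim

/-- The matrix `diag(b, b⁻¹)`. -/
def dg (b : F) (hb : b ≠ 0) : SL(2, F) := s2 b 0 0 b⁻¹ (by simp [hb])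

theorem coe_up_dg (b : F) (hb : b ≠ 0) : (up (dg b hb)).1 = diagonal ![1, b, b⁻¹] := by
  ext i j; fin_cases i <;> fin_cases j <;> simp [coe_up, dg]

theorem isSemisimple_diagonal {n : Type*} [Fintype n] [DecidableEq n] (d : n → F) :
    End.IsSemisimple (toLin' (diagonal d)) := by
  classical
  refine End.isSemisimple_of_squarefree_aeval_eq_zero (p := ∏ a ∈ Finset.univ.image d, (X - C a))
    (separable_prod_X_sub_C_iff'.2 fun _ _ _ _ h => h).squarefree ?_
  rw [GLC.aeval_toLin', ← diagonalAlgHom_apply F, aeval_algHom_apply, LinearEquiv.map_eq_zero_iff,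
    show aeval d _ = 0 from funext fun i => ?_, map_zero]
  rw [aeval_pi_apply₂, map_prod]
  exact Finset.prod_eq_zero (Finset.mem_image_of_mem d (Finset.mem_univ i)) (by simp)

theorem isConj_up_dg {D : SL(3, F)} {m : ℕ} (hD : D ^ m = 1) (hm : (m : F) ≠ 0) (h1 : (D.1 - 1).det = 0)
    {b : F} (hb : b ≠ 0) (h : D.1.trace = 1 + b + b⁻¹) : IsConj (up (dg b hb)) D := by
  rw [det_sub_one, sub_eq_zero] at h1
  refine GLC.sl_isConj_of_sim (GLC.sim_of_charpoly_eq (coe_up_dg b hb ▸ isSemisimple_diagonal _)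
    (GLC.isSemisimple_of_pow_eq hm one_ne_zero ?_) ?_) (eq_top_iff.2 fun c _ => ⟨toLin' (diagonal ![c, 1, 1]), ?_, ?_⟩)
  · rw [← GLC.toLin'_pow', ← coe_pow', hD, one_smul]; exact toLin'_one
  · rw [charpoly_toLin', charpoly_toLin', charpoly3 D, ← h1, h, coe_up_dg, charpoly_diagonal, Fin.prod_univ_three]
    have : C b * C b⁻¹ = 1 := by rw [← C_mul, mul_inv_cancel₀ hb, C_1]
    simp only [cons_val, cons_val_zero, cons_val_one, C_add, C_1]
    linear_combination (X - 1) * this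
  · rw [GLC.commute_toLin'_iff, coe_up_dg]; exact commute_diagonal _ _
  · simp [Fin.prod_univ_three]

/-- There is one class of involutions in odd characteristic. -/
theorem isConj_invol [Finite F] (h2 : (2 : F) ≠ 0) {t : G2 F} (ht : t ^ 2 = 1) (h1 : t ≠ 1) :
    IsConj (psi (gamR (-1))) t := by
  obtain ⟨x, hx, hn, h⟩ := exists_eigen_of_invol h2 ht h1
  obtain ⟨e, he, h⟩ := exists_idem_of_eigen ht h2 hx hn h
  obtain ⟨g, D, hD⟩ := he.exists_conj h
  have h3 : D ^ 2 = 1 := sl_injective (by rw [map_pow, ← hD, conj_pow, ht]; simp)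
  have h4 : D⁻¹ = D := inv_eq_of_mul_eq_one_right (sq D ▸ h3)
  have h5 : (D.1 - 1).det = 0 := by rw [det_sub_one, h4, sub_self]
  have h6 : D.1 * D.1 = 1 := congrArg Subtype.val (sq D ▸ h3)
  have h7 : D.1.trace = 1 + -1 + (-1)⁻¹ := by
    by_contra h7
    have h8 := D.1.aeval_self_charpoly
    rw [charpoly3, h4] at h8
    simp only [map_sub, map_add, map_mul, map_pow, aeval_X, aeval_C, map_one, pow_succ, pow_zero, one_mul, h6,
      Algebra.algebraMap_eq_smul_one, smul_one_mul] at h8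
    have h9 : (D.1.trace + 1) • (D.1 - 1) = 0 := by rw [← h8]; module
    rw [smul_eq_zero, sub_eq_zero, or_iff_right fun e => h7 (by linear_combination e - inv_neg_one (R := F))] at h9
    rw [show D = 1 from Subtype.ext h9, map_one, mul_inv_eq_one, mul_eq_left] at hD
    exact h1 hD
  have := sl.map_isConj (isConj_up_dg h3 h2 h5 (by simp) h7)
  rw [sl_up, ← hD, show dg (-1 : F) _ = -1 from Subtype.ext (by simp [dg, one_fin_two])] at this
  exact this.trans (isConj_iff.2 ⟨g, rfl⟩).symm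

end Cfsg.Lib.Oct
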