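import Cfsg.Agent.Lib.Oct.SL3
import Cfsg.Agent.Lib.Linear.Transv

/-!
# Cayley–Dickson coordinates on the split octonions

`O = M₂ ⊕ M₂`, and the automorphisms `psi (A, B) : (X, Y) ↦ (A X A⁻¹, B Y A⁻¹)` (`det A = det B`).
-/

set_option autoImplicit false

namespace Cfsg.Lib.Oct
open Cfsg.Lie Matrix
open scoped MatrixGroups

variable {F : Type*} [Field F]

/-- Cayley–Dickson coordinates. -/
def cd (X Y : Matrix (Fin 2) (Fin 2) F) : Fin 8 → F :=
  ![X 0 0, X 0 1, Y 0 0, Y 1 0, X 1 0, -Y 1 1, Y 0 1, X 1 1]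

/-- The first coordinate. -/
def cX (x : Fin 8 → F) : Matrix (Fin 2) (Fin 2) F := !![x 0, x 1; x 4, x 7]

/-- The second coordinate. -/
def cY (x : Fin 8 → F) : Matrix (Fin 2) (Fin 2) F := !![x 2, x 6; x 3, -x 5]

section
variable (X Y X' Y' : Matrix (Fin 2) (Fin 2) F)

@[simp] theorem cX_cd : cX (cd X Y) = X := (eta_fin_two X).symm

@[simp] theorem cY_cd : cY (cd X Y) = Y := by
  ext i j; fin_cases i <;> fin_cases j <;> simp [cY, cd]

theorem cd_eta (x : Fin 8 → F) : cd (cX x) (cY x) = x := by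
  ext i; fin_cases i <;> simp [cX, cY, cd]

theorem exists_cd (x : Fin 8 → F) : ∃ X Y, x = cd X Y := ⟨_, _, (cd_eta x).symm⟩

variable {X Y X' Y'} in
@[simp] theorem cd_inj : cd X Y = cd X' Y' ↔ X = X' ∧ Y = Y' :=
  ⟨fun h => ⟨by simpa using congrArg cX h, by simpa using congrArg cY h⟩, fun ⟨h1, h2⟩ => h1 ▸ h2 ▸ rfl⟩

theorem cd_add : cd X Y + cd X' Y' = cd (X + X') (Y + Y') := by
  ext i; fin_cases i <;> simp [cd, add_comm]

theorem cd_smul (c : F) : c • cd X Y = cd (c • X) (c • Y) := by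
  ext i; fin_cases i <;> simp [cd]

@[simp] theorem cd_zero : cd (0 : Matrix (Fin 2) (Fin 2) F) 0 = 0 := by
  ext i; fin_cases i <;> simp [cd]

theorem cd_one : cd 1 0 = one F := by
  ext i; fin_cases i <;> simp [cd, one, mk]

theorem cd_mul : cd X Y ⋆ cd X' Y' = cd (X * X' - adjugate Y' * Y) (Y' * X + Y * adjugate X') := by
  ext i; fin_cases i <;> simp [cd, mul_eq, adjugate_fin_two, mul_apply, Fin.sum_univ_two, vecMul, dotProduct] <;> ring

theorem nm_cd : nm (cd X Y) = X.det + Y.det := by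
  simp [cd, nm, det_fin_two]; ring

theorem tr_cd : tr (cd X Y) = X.trace := by
  simp [cd, tr_apply, trace_fin_two]

theorem cd_eq_mk : cd X Y = mk (X 0 0) ![X 0 1, Y 0 0, Y 1 0] ![X 1 0, -Y 1 1, Y 0 1] (X 1 1) := rfl

theorem mk_eq_cd (α β : F) (a b : Fin 3 → F) :
    mk α a b β = cd !![α, a 0; b 0, β] !![a 1, b 2; a 2, -b 1] := by
  ext i; fin_cases i <;> simp [cd, mk]

end

theorem adjugate_gl {n : Type*} [Fintype n] [DecidableEq n] (A : GL n F) :
    adjugate A.1 = A.1.det • (A⁻¹).1 := by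
  rw [← mul_one (adjugate _), ← A.mul_inv, ← mul_assoc, adjugate_mul, smul_mul_assoc, one_mul]

variable (F) in
/-- Pairs of invertible matrices with the same determinant. -/
def Gam : Subgroup (GL (Fin 2) F × GL (Fin 2) F) :=
  (GeneralLinearGroup.det.comp (.fst _ _)).eqLocus (GeneralLinearGroup.det.comp (.snd _ _))

theorem mem_Gam {g : GL (Fin 2) F × GL (Fin 2) F} : g ∈ Gam F ↔ g.1.1.det = g.2.1.det :=
  Units.ext_iff

/-- The linear map `(X, Y) ↦ (A X A⁻¹, B Y A⁻¹)`. -/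
def psiL (g : Gam F) : Module.End F (Fin 8 → F) where
  toFun x := cd (g.1.1.1 * cX x * (g.1.1⁻¹).1) (g.1.2.1 * cY x * (g.1.1⁻¹).1)
  map_add' x y := by
    obtain ⟨_, _, rfl⟩ := exists_cd x
    obtain ⟨_, _, rfl⟩ := exists_cd y
    simp [cd_add, mul_add, add_mul]
  map_smul' c x := by
    obtain ⟨_, _, rfl⟩ := exists_cd x
    simp [cd_smul]

theorem psiL_cd (g : Gam F) (X Y : Matrix (Fin 2) (Fin 2) F) :
    psiL g (cd X Y) = cd (g.1.1.1 * X * (g.1.1⁻¹).1) (g.1.2.1 * Y * (g.1.1⁻¹).1) := by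
  simp [psiL]

theorem psiL_mul (g h : Gam F) (x : Fin 8 → F) : psiL (g * h) x = psiL g (psiL h x) := by
  obtain ⟨_, _, rfl⟩ := exists_cd x
  simp only [psiL_cd, Subgroup.coe_mul, Prod.fst_mul, Prod.snd_mul, _root_.mul_inv_rev, Units.val_mul,
    mul_assoc]

theorem psiL_one (x : Fin 8 → F) : psiL 1 x = x := by
  obtain ⟨_, _, rfl⟩ := exists_cd x
  simp [psiL_cd]

/-- The automorphisms preserving the quaternion subalgebra `M₂ ⊕ 0`. -/
noncomputable def psi : Gam F →* G2 F :=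
  MonoidHom.mk' (fun g => ofEquiv (.ofLinear (psiL g) (psiL g⁻¹)
    (LinearMap.ext fun x => by simp [← psiL_mul, psiL_one])
    (LinearMap.ext fun x => by simp [← psiL_mul, psiL_one])) fun x y => by
      obtain ⟨X, Y, rfl⟩ := exists_cd x
      obtain ⟨X', Y', rfl⟩ := exists_cd y
      obtain ⟨⟨A, B⟩, h⟩ := g
      have h1 : (A⁻¹).1.det * A.1.det = 1 := by rw [← det_mul, A.inv_mul, det_one]
      simp only [LinearEquiv.ofLinear_apply, cd_mul, psiL_cd, adjugate_mul_distrib, adjugate_gl, inv_inv,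
        ← mem_Gam.1 h, mul_assoc, smul_mul_assoc, mul_smul_comm, smul_smul, h1, mul_comm A.1.det, one_smul,
        Units.inv_mul_cancel_left, mul_add, add_mul, mul_sub, sub_mul])
    fun g h => G2_ext fun x => by simp [mul_smul, psiL_mul]

@[simp] theorem psi_smul_cd (g : Gam F) (X Y : Matrix (Fin 2) (Fin 2) F) :
    psi g • cd X Y = cd (g.1.1.1 * X * (g.1.1⁻¹).1) (g.1.2.1 * Y * (g.1.1⁻¹).1) := by
  simp only [psi, MonoidHom.mk'_apply, ofEquiv_smul]; exact psiL_cd g X Y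

theorem G2_ext_cd {g h : G2 F} (H : ∀ X Y : Matrix (Fin 2) (Fin 2) F, g • cd X Y = h • cd X Y) : g = h :=
  G2_ext fun x => let ⟨X, Y, e⟩ := exists_cd x; e ▸ H X Y

theorem psi_eq_one_iff {g : Gam F} : psi g = 1 ↔ ∃ c : F, g.1.1.1 = c • 1 ∧ g.1.2.1 = c • 1 := by
  obtain ⟨⟨A, B⟩, h⟩ := g
  refine ⟨fun e => ?_, fun ⟨c, h1, h2⟩ => G2_ext_cd fun X Y => ?_⟩
  · have h1 := fun X Y => cd_inj.1 ((psi_smul_cd _ X Y).symm.trans (e ▸ one_smul _ _))
    obtain ⟨c, hc⟩ := mem_range_scalar_of_commute_single (M := A.1) fun i j _ =>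
      (Units.mul_inv_eq_iff_eq_mul _).1 (h1 _ 0).1 |>.symm
    have h2 : B.1 = A.1 := by simpa using (Units.mul_inv_eq_iff_eq_mul _).1 (h1 0 1).2
    exact ⟨c, by simp [← hc, smul_one_eq_diagonal], by simp [h2, ← hc, smul_one_eq_diagonal]⟩
  · dsimp only at h1 h2
    have : c • (A⁻¹).1 = 1 := by rw [← A.mul_inv, h1, smul_one_mul]
    simp only [psi_smul_cd, h1, h2, one_smul, smul_mul_assoc, one_mul]
    simp only [← mul_smul_comm, this, mul_one]

theorem bl_cd (X Y X' Y' : Matrix (Fin 2) (Fin 2) F) :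
    bl (cd X Y) (cd X' Y') = (X * adjugate X').trace + (Y * adjugate Y').trace := by
  simp [cd, bl_apply, adjugate_fin_two, trace_fin_two, mul_apply, Fin.sum_univ_two]; ring

/-- An automorphism preserving `M₂ ⊕ 0` has the form `psi (A, B)`. -/
theorem exists_eq_psi {g : G2 F} (H : ∀ X : Matrix (Fin 2) (Fin 2) F, cY (g • cd X 0) = 0) : ∃ h, psi h = g := by
  have H1 : ∀ X : Matrix (Fin 2) (Fin 2) F, g • cd X 0 = cd (cX (g • cd X 0)) 0 := fun X =>
    (cd_eta _).symm.trans (congrArg _ (H X))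
  let f : Matrix (Fin 2) (Fin 2) F →ₐ[F] Matrix (Fin 2) (Fin 2) F := .ofLinearMap
    { toFun X := cX (g • cd X 0)
      map_add' X X' := by
        have := cd_add X 0 X' 0
        rw [add_zero] at this
        rw [← this, smul_add, H1 X, H1 X', cd_add, cX_cd, cX_cd, cX_cd]
      map_smul' c X := by
        have := cd_smul X 0 c
        rw [smul_zero] at this
        rw [← this, smul_smul', H1 X, cd_smul, cX_cd, cX_cd]; rfl }
    (by simp [cd_one]; rw [← cd_one, cX_cd]) fun X X' => by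
      have := cd_mul X 0 X' 0
      simp only [mul_zero, zero_mul, sub_zero, add_zero] at this
      change cX _ = cX _ * cX _
      rw [← this, smul_omul_smul, H1 X, H1 X', cd_mul]; simp
  have hf : Function.Injective f := fun X X' e =>
    (cd_inj.1 (MulAction.injective g ((H1 X).trans ((congrArg (cd · 0) e).trans (H1 X').symm)))).1
  let e := AlgEquiv.ofBijective f ⟨hf, LinearMap.surjective_of_injective (f := f.toLinearMap) hf⟩
  obtain ⟨T, hT⟩ := (toLinAlgEquiv'.symm.trans (e.trans toLinAlgEquiv')).eq_linearEquivConjAlgEquiv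
  let A : GL (Fin 2) F := ⟨LinearMap.toMatrix' T.toLinearMap, LinearMap.toMatrix' T.symm.toLinearMap,
    by rw [← LinearMap.toMatrix'_comp]; simp, by rw [← LinearMap.toMatrix'_comp]; simp⟩
  have hA : ∀ X, g • cd X 0 = cd (A.1 * X * (A⁻¹).1) 0 := fun X => by
    have := congrArg LinearMap.toMatrix' (DFunLike.congr_fun hT (toLin' X))
    rw [LinearEquiv.conjAlgEquiv_apply, LinearMap.toMatrix'_comp, LinearMap.toMatrix'_comp,
      LinearMap.toMatrix'_toLin', ← mul_assoc] at this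
    rw [H1 X]
    refine congrArg (cd · 0) (.trans ?_ this)
    change _ = LinearMap.toMatrix' (toLin' (f (LinearMap.toMatrix' (toLin' X))))
    rw [LinearMap.toMatrix'_toLin', LinearMap.toMatrix'_toLin']; rfl
  obtain ⟨Z, B, hB⟩ := exists_cd (g • cd (F := F) 0 1)
  have hZ : Z = 0 := by
    have : ∀ X, (Z * adjugate X).trace = 0 := fun X => by
      have := bl_smul g (cd 0 1) (cd ((A⁻¹).1 * X * A.1) 0)
      rw [hA, hB, ← mul_assoc, ← mul_assoc, A.mul_inv, one_mul, Units.mul_inv_cancel_right] at this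
      simpa [bl_cd] using this
    have h1 := this !![1, 0; 0, 0]
    have h2 := this !![0, 1; 0, 0]
    have h3 := this !![0, 0; 1, 0]
    have h4 := this !![0, 0; 0, 1]
    simp [adjugate_fin_two, trace_fin_two, mul_apply, Fin.sum_univ_two] at h1 h2 h3 h4
    ext i j; fin_cases i <;> fin_cases j <;> assumption
  have hd : B.det = 1 := by simpa [hB, hZ, nm_cd] using nm_smul' g (cd 0 1)
  refine ⟨⟨(A, .mkOfDetNeZero B (hd ▸ one_ne_zero) * A), mem_Gam.2 (by simp [hd])⟩, G2_ext_cd fun X Y => ?_⟩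
  have : cd X Y = cd X 0 + cd 0 1 ⋆ cd (adjugate Y) 0 := by
    simp [cd_mul, cd_add, adjugate_adjugate]
  have h1 : (A⁻¹).1.det * A.1.det = 1 := by rw [← det_mul, A.inv_mul, det_one]
  rw [psi_smul_cd, this, smul_add, smul_omul_smul, hA, hA, hB, hZ, cd_mul, cd_add]
  simp only [adjugate_mul_distrib, adjugate_gl, inv_inv, mul_assoc, smul_mul_assoc, mul_smul_comm, smul_smul, h1,
    mul_comm A.1.det, one_smul]
  simp [adjugate_adjugate, mul_assoc]

/-- `A ↦ (A, 1)`. -/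
def gamL : SL(2, F) →* Gam F :=
  (SpecialLinearGroup.toGL.prod 1).codRestrict _ fun A => mem_Gam.2 (A.2.trans det_one.symm)

/-- `B ↦ (1, B)`. -/
def gamR : SL(2, F) →* Gam F :=
  ((1 : _ →* _).prod SpecialLinearGroup.toGL).codRestrict _ fun A => mem_Gam.2 (det_one.trans A.2.symm)

/-- `A ↦ (A, A)`. -/
def gamD : GL (Fin 2) F →* Gam F := ((MonoidHom.id _).prod (.id _)).codRestrict _ fun _ => mem_Gam.2 rfl

section
variable (A : SL(2, F)) (X Y : Matrix (Fin 2) (Fin 2) F)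

theorem gamL_smul : psi (gamL A) • cd X Y = cd (A.1 * X * (A⁻¹).1) (Y * (A⁻¹).1) :=
  (psi_smul_cd _ _ _).trans (congrArg _ (congrArg (· * _) (one_mul Y)))

theorem gamR_smul : psi (gamR A) • cd X Y = cd X (A.1 * Y) :=
  (psi_smul_cd _ _ _).trans (cd_inj.2 ⟨(mul_one _).trans (one_mul _), mul_one _⟩)

theorem gamD_smul (A : GL (Fin 2) F) :
    psi (gamD A) • cd X Y = cd (A.1 * X * (A⁻¹).1) (A.1 * Y * (A⁻¹).1) := psi_smul_cd _ _ _

theorem gamL_comm (B : SL(2, F)) : Commute (gamL A) (gamR B) :=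
  Subtype.ext (Prod.ext ((mul_one _).trans (one_mul _).symm) ((one_mul _).trans (mul_one _).symm))

theorem psi_gamR_injective : Function.Injective (psi.comp (gamR (F := F))) :=
  (injective_iff_map_eq_one _).2 fun _ h => let ⟨_, h1, h2⟩ := psi_eq_one_iff.1 h; Subtype.ext (h2.trans h1.symm)

theorem psi_gamL_injective : Function.Injective (psi.comp (gamL (F := F))) :=
  (injective_iff_map_eq_one _).2 fun _ h => let ⟨_, h1, h2⟩ := psi_eq_one_iff.1 h; Subtype.ext (h1.trans h2.symm)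

variable {A X Y} in
theorem eq_zero_of_gamR_smul {c : F} (hA : (A.1 - c • 1).det ≠ 0) (h : psi (gamR A) • cd X Y = c • cd X Y) :
    Y = 0 := by
  rw [gamR_smul, cd_smul] at h
  have : (A.1 - c • 1) * Y = 0 := by rw [sub_mul, (cd_inj.1 h).2, smul_one_mul, sub_self]
  exact ((isUnit_iff_isUnit_det _).2 hA.isUnit).mul_right_eq_zero.1 this

variable {A} in
theorem exists_eq_psi_of_commute (hA : (A.1 - 1).det ≠ 0) {g : G2 F} (h : Commute g (psi (gamR A))) :
    ∃ h, psi h = g :=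
  exists_eq_psi fun X => eq_zero_of_gamR_smul (c := 1) (X := cX (g • cd X 0)) (by rwa [one_smul]) (by
    rw [cd_eta, one_smul, ← mul_smul, ← h.eq, mul_smul, gamR_smul, mul_zero])

end

variable (F) in
/-- The matrix `J`. -/
def JJ : GL (Fin 2) F := ⟨!![0, 1; -1, 0], !![0, -1; 1, 0], by simp [one_fin_two], by simp [one_fin_two]⟩

theorem psi_JJ : psi (gamD (JJ F)) = w0 F := G2_ext_mk fun α a b β => by
  rw [w0_smul_mk, mk_eq_cd, mk_eq_cd, gamD_smul]
  simp [JJ]

/-- An explicit element of `SL₂`. -/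
def s2 (a b c d : F) (h : a * d - b * c = 1) : SL(2, F) := ⟨!![a, b; c, d], by rwa [det_fin_two_of]⟩

@[simp] theorem coe_s2 (a b c d : F) (h) : (s2 a b c d h).1 = !![a, b; c, d] := rfl

theorem coe_s2_inv (a b c d : F) (h) : ((s2 a b c d h)⁻¹).1 = !![d, -b; -c, a] := adjugate_fin_two_of ..

/-- `B ↦ 1 ⊕ B`. -/
def up (B : SL(2, F)) : SL(3, F) :=
  ⟨!![1, 0, 0; 0, B.1 0 0, B.1 0 1; 0, B.1 1 0, B.1 1 1], by
    simpa [det_fin_three] using (det_fin_two _).symm.trans B.2⟩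

theorem coe_up (B : SL(2, F)) : (up B).1 = !![1, 0, 0; 0, B.1 0 0, B.1 0 1; 0, B.1 1 0, B.1 1 1] := rfl

theorem e0_eq_cd : e0 F = cd !![1, 0; 0, 0] 0 := by
  ext i; fin_cases i <;> simp [cd, e0, mk]

theorem sl_up (B : SL(2, F)) : sl (up B) = psi (gamR B) := by
  obtain ⟨A, hA⟩ : ∃ A, sl A = psi (gamR B) := exists_eq_sl (by rw [e0_eq_cd, gamR_smul, mul_zero])
  rw [← hA]
  refine congrArg sl (Subtype.ext (ext_iff_mulVec.2 fun a => ?_))
  have := sl_smul_mk A 0 0 a 0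
  rw [hA, mk_eq_cd, gamR_smul, cd_eq_mk] at this
  rw [← (mk_inj.1 this).2.1]
  ext i; fin_cases i <;> simp [coe_up, mulVec, dotProduct, Fin.sum_univ_three, mul_apply, Fin.sum_univ_two]

variable {K : Type*} [Field K] (φ : F →+* K)

theorem comp_cd (X Y : Matrix (Fin 2) (Fin 2) F) : φ ∘ cd X Y = cd (X.map φ) (Y.map φ) := by
  ext i; fin_cases i <;> simp [cd]

theorem mapG_gamD (A : GL (Fin 2) F) : mapG φ (psi (gamD A)) = psi (gamD (GeneralLinearGroup.map φ A)) :=
  mapG_ext φ fun x => by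
    obtain ⟨X, Y, rfl⟩ := exists_cd x
    rw [gamD_smul, comp_cd, comp_cd, gamD_smul, ← map_inv]
    simp only [Matrix.map_mul]; rfl

theorem mapG_gamR (A : SL(2, F)) : mapG φ (psi (gamR A)) = psi (gamR (SpecialLinearGroup.map φ A)) :=
  mapG_ext φ fun x => by
    obtain ⟨X, Y, rfl⟩ := exists_cd x
    rw [gamR_smul, comp_cd, comp_cd, gamR_smul, Matrix.map_mul]; rfl

/-! ### Transitivity on idempotents over any field -/

theorem exists_sl_single {α β : F} {a b : Fin 3 → F} (ha : a ≠ 0) :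
    ∃ (A : SL(3, F)) (c : F), c ≠ 0 ∧ sl A • mk α a b β = mk α ![c, 0, 0] ((ctr A).1 *ᵥ b) β := by
  obtain ⟨A, c, hc, h⟩ := Linear.exists_SL_mulVec_single 0 ha
  refine ⟨A⁻¹, c, hc, ?_⟩
  rw [sl_smul_mk, ← h, mulVec_mulVec, Linear.SL_coe_inv_mul, one_mulVec]
  congr 1; ext i; fin_cases i <;> simp

theorem Idem.exists_left {α β : F} {a b : Fin 3 → F} (h : Idem (mk α a b β)) (hab : a ⬝ᵥ b = 0) :
    ∃ (g : G2 F) (A : SL(3, F)), g • mk α a b β = mk α 0 (A.1 *ᵥ b) β := by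
  by_cases ha : a = 0
  · exact ⟨1, 1, by simp [ha]⟩
  obtain ⟨A, c, hc, e⟩ := exists_sl_single (α := α) (β := β) (b := b) ha
  have h1 := (h.smul (sl A)).2
  have h2 : α * β = 0 := by simpa [hab] using h.2
  have h3 : α + β = 1 := by simpa using h.1
  refine ⟨psi (gamL (s2 1 (c * (α - β)) 0 1 (by simp))) * sl A, ctr A, ?_⟩
  rw [e] at h1
  rw [mul_smul, e, mk_eq_cd, gamL_smul, mk_eq_cd]
  generalize (ctr A).1 *ᵥ b = d at h1 ⊢
  have h4 : d 0 = 0 := by simpa [h2, dotProduct, Fin.sum_univ_three, hc] using h1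
  rw [coe_s2_inv]
  simp [h4]
  linear_combination (4 * c) * h2 - c * (α + β + 1) * h3

theorem Idem.exists_smul' {x : Fin 8 → F} (h : Idem x) : ∃ g : G2 F, g • x = e0 F := by
  have H : ∀ {α β : F} {a b : Fin 3 → F}, Idem (mk α a b β) → a ⬝ᵥ b = 0 → ∃ g : G2 F, g • mk α a b β = e0 F :=
    fun {α β a b} h hab => by
      obtain ⟨g, A, e⟩ := h.exists_left hab
      have h1 := (h.smul g).smul (w0 F)
      rw [e, w0_smul_mk] at h1
      obtain ⟨g', A', e'⟩ := h1.exists_left (by simp)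
      have h2 : α * β = 0 := by simpa [hab] using h.2
      have h3 : α + β = 1 := by simpa using h.1
      rcases mul_eq_zero.1 h2 with rfl | rfl
      · exact ⟨g' * w0 F * g, by rw [mul_smul, mul_smul, e, w0_smul_mk, e', e0]; simpa using h3⟩
      · exact ⟨w0 F * g' * w0 F * g, by
          rw [mul_smul, mul_smul, mul_smul, e, w0_smul_mk, e', w0_smul_mk, e0]; simpa using h3⟩
  obtain ⟨α, a, b, β, rfl⟩ := exists_mk x
  by_cases ha : a = 0
  · exact H h (by simp [ha])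
  obtain ⟨A, c, hc, e⟩ := exists_sl_single (α := α) (β := β) (b := b) ha
  let g := psi (gamL (s2 1 0 (-β / c) 1 (by simp))) * sl A
  obtain ⟨α', a', b', β', e'⟩ := exists_mk (g • mk α a b β)
  have h1 : β' = 0 := by
    rw [mul_smul, e, mk_eq_cd, gamL_smul, cd_eq_mk, coe_s2_inv] at e'
    simpa [hc] using (mk_inj.1 e').2.2.2.symm
  have h2 := e' ▸ h.smul g
  obtain ⟨g', e''⟩ := H h2 (by simpa [h1] using h2.2)
  exact ⟨g' * g, by rw [mul_smul, e', e'']⟩

end Cfsg.Lib.Oct
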