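import Cfsg.Agent.Lib.Oct.Fix
import Cfsg.Agent.Lib.Unitary.Wall5

/-!
# The twisted form of `G₂` and the subgroup `SU₃(q)`
-/

set_option autoImplicit false

namespace Cfsg.Lib.Oct
open Module Cfsg.Lie Matrix Cfsg.Lib.Unitary
open scoped MatrixGroups

variable {E : Type*} [Field E] {σ : E →+* E} {q : ℕ}

variable (σ) in
/-- The fixed points of `σ` twisted by `w₀`. -/
noncomputable def tw : Subgroup (G2 E) := (mapG σ).eqLocus (MulAut.conj (w0 E)).toMonoidHom

theorem mem_tw {g : G2 E} : g ∈ tw σ ↔ mapG σ g = w0 E * g * w0 E := by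
  rw [← congrArg (w0 E * g * ·) w0_inv]; rfl

theorem sl_mem_tw {A : SL(3, E)} : sl A ∈ tw σ ↔ SpecialLinearGroup.map σ A = ctr A := by
  rw [mem_tw, mapG_sl, w0_conj_sl, sl_injective.eq_iff]

theorem w0_mem_tw : w0 E ∈ tw σ := by simp [mem_tw, mapG_w0]

theorem sl_mem_tw_iff (hσ : IsBar q σ) {A : SL(3, E)} : sl A ∈ tw σ ↔ A ∈ SU 3 E q := by
  rw [sl_mem_tw, hσ.mem_SU_iff, eq_comm, ctr_eq_iff, ← transpose_inj, transpose_mul, transpose_transpose,
    transpose_one]; rfl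

theorem exists_tw (hσ : IsBar q σ) : ∃ h : G2 E, mapG σ h = h * w0 E := by
  obtain ⟨c, hc⟩ := hσ.exists_norm_eq (μ := -1) (by simp)
  obtain ⟨l, hl⟩ : ∃ l, l * l + σ c * σ l * (σ c * σ l) ≠ 0 := by
    by_contra! H
    obtain ⟨θ, hθ⟩ := hσ.exists_ne
    have h1 := H 1
    have h2 := H θ
    have h3 := H (1 + θ)
    simp only [map_one, map_add] at h1 h3
    have h4 : (σ θ - θ) * (σ θ + θ) = 0 := by linear_combination σ θ ^ 2 * h1 - h2
    have h5 : (σ θ - θ) * 2 = 0 := by linear_combination (1 + 2 * σ θ) * h1 - h3 + h2 - h1 + h1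
    rw [mul_eq_zero, or_iff_right (sub_ne_zero.2 hθ)] at h4 h5
    exact hθ (by linear_combination h4 - θ * h5)
  let A : GL (Fin 2) E := .mkOfDetNeZero !![l, σ c * σ l; -(σ c * σ l), l] (by simpa [det_fin_two] using hl)
  have hA : ((A * JJ E)⁻¹ * GeneralLinearGroup.map σ A).1 = c • 1 := by
    rw [Units.val_mul, Units.inv_mul_eq_iff_eq_mul]
    ext i j; fin_cases i <;> fin_cases j <;> simp [A, JJ, hσ.invol, mul_apply, Fin.sum_univ_two] <;>
      first | ring1 | linear_combination σ l * hc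
  refine ⟨psi (gamD A), ?_⟩
  rw [mapG_gamD, ← psi_JJ, ← map_mul, ← map_mul, eq_comm, ← inv_mul_eq_one, ← map_inv, ← map_mul, psi_eq_one_iff]
  exact ⟨c, hA, hA⟩

theorem exists_emb (F : Type*) [Field F] [Finite F] : ∃ (E : Type) (_ : Field E) (σ : E →+* E),
    IsBar (Nat.card F) σ ∧ ∃ ι : G2 F →* G2 E, Function.Injective ι ∧ ι.range = tw σ := by
  obtain ⟨E, _, _, _, -, hE⟩ := GLC.exists_ext F two_ne_zero
  cases nonempty_fintype E
  obtain ⟨σ, hσ⟩ := exists_isBar (Nat.card_eq_fintype_card.symm.trans hE)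
  obtain ⟨h, hh⟩ := exists_tw hσ
  have h1 : ∀ x, σ x = x ↔ x ∈ (algebraMap F E).range := fun x => by
    by_cases hx : x = 0
    · simp [hx]
    · rw [hσ.fixed_iff hx, ← GLC.exists_eq_algebraMap_iff hx]; exact exists_congr fun _ => eq_comm
  refine ⟨E, _, σ, hσ, (MulAut.conj h⁻¹).toMonoidHom.comp (mapG (algebraMap F E)),
    (MulAut.conj h⁻¹).injective.comp (mapG_injective _), le_antisymm ?_ fun g hg => ?_⟩
  · rintro _ ⟨g, rfl⟩
    have : σ.comp (algebraMap F E) = algebraMap F E := RingHom.ext fun x => (h1 _).2 ⟨x, rfl⟩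
    simp [mem_tw, hh, mapG_mapG, this, mul_assoc]
  · have : mapG σ (h * g * h⁻¹) = h * g * h⁻¹ := by
      simp [hh, mem_tw.1 hg, mul_assoc, ← mul_assoc (w0 E) (w0 E)]
    obtain ⟨x, hx⟩ := mem_range_mapG (algebraMap F E) (g := h * g * h⁻¹) fun i j =>
      (h1 _).1 (congrArg (·.1.1 i j) this)
    exact ⟨x, by simp [hx, mul_assoc]⟩

/-- Element orders of `SU₃(q)` are element orders of `G₂(q)`. -/
theorem exists_orderOf_su (F : Type*) [Field F] [Finite F] : ∃ (E : Type) (_ : Field E) (σ : E →+* E),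
    IsBar (Nat.card F) σ ∧ ∀ A : SU 3 E (Nat.card F), ∃ g : G2 F, orderOf g = orderOf A.1 := by
  obtain ⟨E, _, σ, hσ, ι, hι, h⟩ := exists_emb F
  refine ⟨E, _, σ, hσ, fun A => ?_⟩
  obtain ⟨g, hg⟩ := h.ge ((sl_mem_tw_iff hσ).2 A.2)
  exact ⟨g, by rw [← orderOf_injective ι hι, hg, orderOf_injective sl sl_injective]⟩

end Cfsg.Lib.Oct
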