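import Cfsg.Agent.Lib.Oct.Spec
import Cfsg.Agent.Lib.Oct.SU3
import Cfsg.Agent.Lib.Oct.Chev

/-!
# Element orders of `G₂(q)`: existence
-/

set_option autoImplicit false

namespace Cfsg.Lib.Oct
open Module Cfsg.Lie Matrix Cfsg.Lib.GLC Cfsg.Lib.Unitary
open scoped MatrixGroups

variable {F : Type*} [Field F]

theorem orderOf_lmul {K : Type*} [Field K] [Algebra F K] (a : K) : orderOf (Algebra.lmul F K a) = orderOf a :=
  orderOf_injective (Algebra.lmul F K).toMonoidHom Algebra.lmul_injective a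

theorem exists_sl_orderOf [Finite F] {n m : ℕ} (hn : n ≠ 0) (h : (Nat.card F - 1) * m = Nat.card F ^ n - 1) :
    ∃ A : SL(n, F), orderOf A = m := by
  obtain ⟨K, _, _, _, h3, hK⟩ := exists_ext F hn
  obtain ⟨a, -, ho⟩ := exists_orderOf_eq (K := K) (hK ▸ Dvd.intro_left _ h)
  have : Module.Finite F K := .of_finite
  obtain ⟨A, hA⟩ := exists_sl_sim (n := Fin n) (f := Algebra.lmul F K a) (norm_eq_one_iff.2 (by
    rw [hK, ← h, Nat.mul_div_cancel_left _ (Nat.sub_pos_of_lt Finite.one_lt_card), ← ho, pow_orderOf_eq_one]))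
    (by simpa using h3)
  exact ⟨A, by rw [← orderOf_toLin'_sl, hA.orderOf_eq, orderOf_lmul, ho]⟩

theorem exists_gl_orderOf [Finite F] {n : ℕ} (hn : n ≠ 0) : ∃ A : GL (Fin n) F, orderOf A = Nat.card F ^ n - 1 := by
  obtain ⟨K, _, _, _, h3, hK⟩ := exists_ext F hn
  obtain ⟨a, ha, ho⟩ := exists_orderOf_eq (K := K) dvd_rfl
  have : Module.Finite F K := .of_finite
  obtain ⟨A, hA⟩ := exists_gl_sim (n := Fin n) (f := Algebra.lmul F K a) (ha.isUnit.map _) (by simpa using h3)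
  exact ⟨A, by rw [← orderOf_toLin'_gl, hA.orderOf_eq, orderOf_lmul, ho, hK]⟩

theorem exists_dvd_gl (A : GL (Fin 2) F) : ∃ g : G2 F, orderOf A ∣ orderOf g := by
  let γ : Gam F := ⟨(A, .mkOfDetNeZero (diagonal ![A.1.det, 1]) (by simp [A.det_ne_zero])), mem_Gam.2 (by simp)⟩
  obtain ⟨c, h1, h2⟩ := psi_eq_one_iff.1 ((map_pow _ _ _).trans (pow_orderOf_eq_one (psi γ)))
  have h3 : diagonal ![A.1.det, 1] ^ _ = _ := (Units.val_pow_eq_pow_val _ _).symm.trans h2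
  have h4 : c = 1 := by simpa [diagonal_pow] using (congrFun (congrFun h3 1) 1).symm
  exact ⟨_, orderOf_dvd_of_pow_eq_one (Units.ext (by simpa [h4] using h1))⟩

theorem exists_dvd_sl2 (p : ℕ) [CharP F p] (B : SL(2, F)) : ∃ g : G2 F, p ∣ orderOf g ∧ orderOf B ∣ orderOf g := by
  let u : SL(2, F) := s2 1 1 0 1 (by simp)
  have hu : ∀ k : ℕ, u.1 ^ k = !![1, (k : F); 0, 1] := fun k => by
    induction k with
    | zero => simp [one_fin_two]
    | succ k ih => rw [pow_succ, ih]; simp [u, add_comm]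
  obtain ⟨c, h1, h2⟩ := psi_eq_one_iff.1 ((map_pow _ _ _).trans (pow_orderOf_eq_one (psi (gamL u * gamR B))))
  have h3 : (u.1 * 1) ^ _ = _ := (Units.val_pow_eq_pow_val _ _).symm.trans h1
  have h4 : (1 * B.1) ^ _ = _ := (Units.val_pow_eq_pow_val _ _).symm.trans h2
  rw [mul_one, hu] at h3
  have h5 : c = 1 := by simpa using (congrFun (congrFun h3 1) 1).symm
  exact ⟨_, (CharP.cast_eq_zero_iff F p _).1 (by simpa using congrFun (congrFun h3 0) 1),
    orderOf_dvd_of_pow_eq_one (Subtype.ext (by simpa [h5] using h4))⟩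

/-- The nilpotent part of a regular unipotent element. -/
def nL : Sp := [(1, 2, 1, 1), (5, 4, -1, 1), (0, 5, -1, 1), (0, 4, 1, 2), (2, 0, 1, 1), (2, 7, -1, 1), (4, 3, 1, 1),
  (6, 1, -1, 1), (6, 2, -1, 2), (7, 5, 1, 1), (7, 4, -1, 2), (2, 5, -1, 2), (2, 4, 1, 3)]

/-- Its powers. -/
def pL : ℕ → Sp
  | 0 => oneS
  | k + 1 => mulS (pL k) nL

theorem exists_reg (p : ℕ) [Fact p.Prime] [CharP F p] {j : ℕ} (h1 : 7 ≤ p ^ (j + 1)) (a b : Fin 8)
    (h2 : ¬ (p : ℤ) ∣ en (pL (p ^ j)) a b) : ∃ g : G2 F, orderOf g = p ^ (j + 1) := by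
  have h3 : (yG 7 (1 : F) * yG 6 (1 : F)).1.1 - 1 = ev 1 nL := by
    rw [sub_eq_iff_eq_add', ← ev_oneS (1 : F), ← ev_append]
    exact (ev_mulS _ _ _).symm.trans (ev_eq _ (by decide))
  have h4 : ∀ k, ev (1 : F) nL ^ k = ev 1 (pL k) := fun k => by
    induction k with
    | zero => exact (ev_oneS _).symm
    | succ k ih => rw [pow_succ, ih, ← ev_mulS]; rfl
  have h5 : ∀ k, (yG 7 (1 : F) * yG 6 (1 : F)) ^ p ^ k = 1 ↔ ev (1 : F) nL ^ p ^ k = 0 := fun k => by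
    rw [← h3, sub_pow_char_pow_of_commute _ _ (.one_right _), one_pow, sub_eq_zero, ← Units.val_pow_eq_pow_val,
      Units.val_eq_one, ← Subgroup.coe_pow, OneMemClass.coe_eq_one]
  refine ⟨_, orderOf_eq_prime_pow (mt (h5 j).1 fun h => h2 ?_)
    ((h5 _).2 (pow_eq_zero_of_le h1 ((h4 7).trans (ev_eq _ (M := []) (by decide)))))⟩
  rw [← CharP.intCast_eq_zero_iff F p, ← ev_one_apply, ← h4, h]; rfl

theorem orderOf_twelve {K : Type*} [Field K] [CharP K 2] {ω : K} (h : orderOf ω = 3) :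
    ∃ A : SL(3, K), orderOf A = 12 ∧ (A.1 - ω • 1) ^ 3 = 0 := by
  have h1 : ω ^ 3 = 1 := h ▸ pow_orderOf_eq_one ω
  have h2 : ω ≠ 1 := by rintro rfl; simp at h
  let A : SL(3, K) := ⟨!![ω, 1, 0; 0, ω, 1; 0, 0, ω], by simp [det_fin_three]; linear_combination h1⟩
  have h4 : A.1 ^ 2 = !![ω ^ 2, 0, 1; 0, ω ^ 2, 0; 0, 0, ω ^ 2] := by
    ext i j; fin_cases i <;> fin_cases j <;>
      simp [A, sq, CharTwo.add_self_eq_zero, mul_apply, Fin.sum_univ_three]
  have h5 : A.1 ^ 4 = ω • 1 := by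
    rw [show 4 = 2 * 2 from rfl, pow_mul, h4]
    have : ω * ω * (ω * ω) = ω := by linear_combination ω * h1
    ext i j; fin_cases i <;> fin_cases j <;>
      simp [sq, CharTwo.add_self_eq_zero, mul_apply, Fin.sum_univ_three, this]
  refine ⟨A, orderOf_eq_of_pow_and_pow_div_prime (by simp) (Subtype.ext ?_) fun r hr hd e => ?_, ?_⟩
  · rw [coe_pow', show 12 = 4 * 3 from rfl, pow_mul, h5, smul_pow, h1]; simp
  · have e := congrArg Subtype.val e
    have : r ∣ 2 ^ 2 * 3 := hd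
    rw [hr.dvd_mul] at this
    rcases this with h | h
    · obtain rfl := (Nat.prime_dvd_prime_iff_eq hr Nat.prime_two).1 (hr.dvd_of_dvd_pow h)
      rw [coe_pow', show 12 / 2 = 4 + 2 from rfl, pow_add, h4, h5] at e
      have : ω = 0 := by simpa using congrFun (congrFun e 0) 2
      simp [this] at h1
    · obtain rfl := (Nat.prime_dvd_prime_iff_eq hr Nat.prime_three).1 h
      exact h2 (by simpa using congrFun (congrFun (h5.symm.trans e) 0) 0)
  · simp [A, pow_succ, one_fin_three]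
    ext i j; fin_cases i <;> fin_cases j <;> rfl

variable [Finite F]

theorem mem_range_iff {m : ℕ} :
    m ∈ Set.range (orderOf : chevG2.group F → ℕ) ↔ ∃ g : G2 F, m ∣ orderOf g := by
  obtain ⟨e⟩ := nonempty_chev_equiv (F := F)
  rw [← mem_range_orderOf_iff]
  exact ⟨fun ⟨g, h⟩ => ⟨e g, (e.orderOf_eq g).trans h⟩, fun ⟨g, h⟩ => ⟨e.symm g, (e.symm.orderOf_eq g).trans h⟩⟩

variable (F)

theorem has_sq_sub_one : ∃ g : G2 F, Nat.card F ^ 2 - 1 ∣ orderOf g :=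
  let ⟨A, h⟩ := exists_gl_orderOf (F := F) two_ne_zero; h ▸ exists_dvd_gl A

theorem has_sq_add : ∃ g : G2 F, Nat.card F ^ 2 + Nat.card F + 1 ∣ orderOf g := by
  obtain ⟨m, hm⟩ := Nat.exists_eq_add_one_of_ne_zero (Nat.card_pos (α := F)).ne'
  obtain ⟨A, h⟩ := exists_sl_orderOf (F := F) (m := Nat.card F ^ 2 + Nat.card F + 1) three_ne_zero
    (by rw [hm]; exact Nat.eq_sub_of_add_eq (by simp; ring))
  exact ⟨sl A, by rw [orderOf_injective _ sl_injective, h]⟩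

theorem has_sq_sub : ∃ g : G2 F, Nat.card F ^ 2 - Nat.card F + 1 ∣ orderOf g := by
  obtain ⟨E, _, σ, hσ, H⟩ := exists_orderOf_su F
  obtain ⟨K, _, _, _, h3, hK⟩ := hσ.exists_ext three_ne_zero
  obtain ⟨m, hm⟩ := Nat.exists_eq_add_of_lt (Finite.one_lt_card (α := F))
  have h1 : Nat.card F ^ 2 - Nat.card F = (m + 2) * (m + 1) := by rw [hm]; exact Nat.sub_eq_of_eq_add (by ring)
  have h2 : Nat.card E - 1 = (m + 1) * (m + 3) := by rw [hσ.card, hm]; exact Nat.sub_eq_of_eq_add (by ring)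
  have h4 : Nat.card K - 1 = (Nat.card E - 1) * (((m + 2) * (m + 1) + 1) * ((m + 2) * (m + 3) + 1)) := by
    rw [hK, h2, hm]; exact Nat.sub_eq_of_eq_add (by ring)
  obtain ⟨a, -, ho⟩ := exists_orderOf_eq (K := K) (m := (m + 2) * (m + 1) + 1)
    (h4 ▸ (dvd_mul_right _ _).mul_left _)
  have := hσ.finite
  have : Module.Finite E K := .of_finite
  obtain ⟨A, hA⟩ := hσ.exists_su_sim (hσ.sd_lmul (a := a) (j := 3) (by decide) (orderOf_dvd_iff_pow_eq_one.1
    ⟨m + 3, by rw [ho, hm]; ring⟩)) h3 (norm_eq_one_iff.2 (by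
      rw [h4, Nat.mul_div_cancel_left _ (by rw [h2]; positivity), pow_mul, ← ho, pow_orderOf_eq_one, one_pow]))
  obtain ⟨g, hg⟩ := H A
  exact ⟨g, by rw [hg, ← orderOf_toLin'_sl, hA.orderOf_eq, orderOf_lmul, ho, h1]⟩

variable (p : ℕ) [hp : Fact p.Prime] [CharP F p]

theorem coprime_of_dvd {m : ℕ} (h : m ∣ Nat.card F ^ 6 - 1) : p.Coprime m :=
  .coprime_dvd_right h (.coprime_dvd_left ((char_dvd_card p).trans (dvd_pow_self _ (by simp)))
    ((Nat.coprime_self_sub_right (Nat.one_le_pow _ _ Nat.card_pos)).2 (by simp)))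

theorem has_mul_sub : ∃ g : G2 F, p * (Nat.card F - 1) ∣ orderOf g := by
  obtain ⟨b, hb, ho⟩ := exists_orderOf_eq (K := F) dvd_rfl
  obtain ⟨g, h1, h2⟩ := exists_dvd_sl2 p (dg b hb)
  refine ⟨g, (coprime_of_dvd F p (by simpa using Nat.sub_dvd_pow_sub_pow _ 1 6)).mul_dvd_of_dvd_of_dvd h1
    (.trans (ho ▸ orderOf_dvd_of_pow_eq_one ?_) h2)⟩
  have h3 := congrArg Subtype.val (pow_orderOf_eq_one (dg b hb))
  rw [coe_pow', show (dg b hb).1 = diagonal ![b, b⁻¹] by ext i j; fin_cases i <;> fin_cases j <;> simp [dg],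
    diagonal_pow] at h3
  simpa using congrFun (congrFun h3 0) 0

theorem has_mul_add : ∃ g : G2 F, p * (Nat.card F + 1) ∣ orderOf g := by
  obtain ⟨B, ho⟩ := exists_sl_orderOf (F := F) (m := Nat.card F + 1) two_ne_zero
    (by rw [mul_comm]; exact (Nat.sq_sub_sq _ 1).symm)
  obtain ⟨g, h1, h2⟩ := exists_dvd_sl2 p B
  exact ⟨g, (coprime_of_dvd F p ((Dvd.intro _ (Nat.sq_sub_sq _ 1).symm).trans 
    (Nat.pow_sub_one_dvd_pow_sub_one _ (by decide : 2 ∣ 6)))).mul_dvd_of_dvd_of_dvd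
    h1 (ho ▸ h2)⟩

omit hp in
theorem has_twelve [CharP F 2] : ∃ g : G2 F, 12 ∣ orderOf g := by
  by_cases h : 3 ∣ Nat.card F - 1
  · obtain ⟨ω, -, ho⟩ := exists_orderOf_eq h
    obtain ⟨A, hA, -⟩ := orderOf_twelve ho
    exact ⟨sl A, by rw [orderOf_injective _ sl_injective, hA]⟩
  obtain ⟨E, _, σ, hσ, H⟩ := exists_orderOf_su F
  have := Fact.mk Nat.prime_two
  have h1 := not_dvd_card (F := F) 2 Nat.prime_three (by decide)
  have h2 := Nat.card_pos (α := F)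
  obtain ⟨ω, h3, ho⟩ := hσ.exists_normOne_orderOf (m := 3) (by omega)
  have := hσ.finite
  have : CharP E 2 := by
    obtain ⟨r, _, hr⟩ : ∃ r, CharP E r ∧ r.Prime := ⟨_, ringChar.charP E, CharP.char_is_prime E _⟩
    by_contra h4
    exact not_dvd_card (F := F) 2 hr (by rintro rfl; contradiction) ((CharP.cast_eq_zero_iff E r _).1 hσ.cast_q)
  obtain ⟨A, hA, h4⟩ := orderOf_twelve ho
  obtain ⟨d, -, hd⟩ := exists_jt (f := toLin' A.1) (c := ω) (k := 3) (by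
    rw [End.one_eq_id, ← toLin'_one, ← map_smul, ← map_sub, ← toLin'_pow', h4, map_zero])
  obtain ⟨B, hB⟩ := hσ.exists_su_sim (hσ.sd_jt (hd ▸ blocks_typ _) h3) (finrank_fin_fun E)
    ((LinearMap.det_toLin' _).trans A.2)
  obtain ⟨g, hg⟩ := H B
  exact ⟨g, by rw [hg, ← orderOf_toLin'_sl, hB.orderOf_eq, orderOf_toLin'_sl, hA]⟩

end Cfsg.Lib.Oct
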