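import Cfsg.Agent.Lib.Oct.Fix

/-!
# Element orders of `G₂(q)`: upper bounds
-/

set_option autoImplicit false

namespace Cfsg.Lib.Oct
open Module Cfsg.Lie Matrix Polynomial
open scoped MatrixGroups

variable {K : Type*} [Field K]

theorem perm_cases (τ : K → K) {a b c : K} (h0 : a * b * c = 1) (h1 : τ a + τ b + τ c = a + b + c)
    (h2 : τ a * τ b + τ b * τ c + τ c * τ a = a * b + b * c + c * a) (h3 : τ a * τ b * τ c = 1) :
    (∀ x ∈ [a, b, c], τ x = x) ∨ ((a ≠ b ∧ a ≠ c ∧ b ≠ c) ∧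
      ((∀ x ∈ [a, b, c], τ (τ x) = x) ∨ ∀ x ∈ [a, b, c], x * τ x * τ (τ x) = 1)) := by
  have H : ∀ {x y z u v w : K}, x + y + z = u + v + w → x * y + y * z + z * x = u * v + v * w + w * u →
      x = u → y = v ∧ z = w ∨ y = w ∧ z = v := fun {x y z u v w} h1 h2 h => by
    have : (y - v) * (y - w) = 0 := by subst h; linear_combination (x + y) * h1 - h2
    rcases mul_eq_zero.1 this with e | e
    · exact .inl ⟨sub_eq_zero.1 e, by linear_combination h1 - h - e⟩
    · exact .inr ⟨sub_eq_zero.1 e, by linear_combination h1 - h - e⟩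
  have : (τ a - a) * (τ a - b) * (τ a - c) = 0 := by
    linear_combination τ a ^ 2 * h1 - τ a * h2 + h3 - h0
  simp only [mul_eq_zero, sub_eq_zero] at this
  simp only [List.mem_cons, List.not_mem_nil, or_false, forall_eq_or_imp, forall_eq]
  rcases this with (e | e) | e
  · rcases H h1 h2 e with ⟨e1, e2⟩ | ⟨e1, e2⟩ <;> grind
  · rcases H (y := τ b) (z := τ c) (v := a) (w := c) (by linear_combination h1) (by linear_combination h2) e with ⟨e1, e2⟩ | ⟨e1, e2⟩ <;>
      grind
  · rcases H (y := τ b) (z := τ c) (v := a) (w := b) (by linear_combination h1) (by linear_combination h2) e with ⟨e1, e2⟩ | ⟨e1, e2⟩ <;>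
      grind

theorem exists_roots [IsAlgClosed K] (A : SL(3, K)) : ∃ a b c : K, a * b * c = 1 ∧ A.1.trace = a + b + c ∧
    (A⁻¹).1.trace = a * b + b * c + c * a := by
  obtain ⟨a, ha⟩ := IsAlgClosed.exists_root A.1.charpoly (by simp [charpoly_degree_eq_dim])
  simp only [charpoly3, IsRoot.def, eval_sub, eval_add, eval_mul, eval_pow, eval_X, eval_C, eval_one] at ha
  have h0 : a ≠ 0 := by rintro rfl; simp at ha
  obtain ⟨b, hb⟩ := IsAlgClosed.exists_root (C a * X ^ 2 + C (a * (a - A.1.trace)) * X + C 1)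
    (by rw [degree_quadratic h0]; simp)
  simp only [IsRoot.def, eval_add, eval_mul, eval_pow, eval_X, eval_C] at hb
  exact ⟨a, b, A.1.trace - a - b, by linear_combination -hb, by ring,
    mul_left_cancel₀ h0 (by linear_combination ha + hb)⟩

theorem pow_eq_one_of_dvd {A : SL(3, K)} {a b c : K} (h0 : a * b * c = 1) (h1 : A.1.trace = a + b + c)
    (h2 : (A⁻¹).1.trace = a * b + b * c + c * a) {N : ℕ} (h : (X - C a) * (X - C b) * (X - C c) ∣ X ^ N - 1) :
    A ^ N = 1 := by
  have : A.1.charpoly = (X - C a) * (X - C b) * (X - C c) := by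
    have := congrArg C h0
    simp only [charpoly3, h1, h2, C_add, C_mul, C_1] at this ⊢
    linear_combination this
  obtain ⟨R, hR⟩ := this ▸ h
  have h3 := congrArg (aeval A.1) hR
  rw [map_mul, aeval_self_charpoly, zero_mul, map_sub, map_one, aeval_X_pow, sub_eq_zero] at h3
  exact Subtype.ext h3

theorem dvd_pow_sub_one {a : K} {N : ℕ} (h : a ^ N = 1) : X - C a ∣ X ^ N - 1 := dvd_iff_isRoot.2 (by simp [h])

theorem coprime_sub {a b : K} (h : a ≠ b) : IsCoprime (X - C a) (X - C b) :=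
  isCoprime_X_sub_C_of_isUnit_sub (sub_ne_zero.2 h).isUnit

variable (p : ℕ) [hp : Fact p.Prime] [CharP K p]

theorem pow_cases [IsAlgClosed K] {A : SL(3, K)} (τ : K → K) {N M L : ℕ}
    (hτ : ∀ a b c : K, a * b * c = 1 → A.1.trace = a + b + c → (A⁻¹).1.trace = a * b + b * c + c * a →
      τ a + τ b + τ c = a + b + c ∧ τ a * τ b + τ b * τ c + τ c * τ a = a * b + b * c + c * a ∧
      τ a * τ b * τ c = 1)
    (hN : ∀ x ≠ 0, τ x = x → x ^ N = 1) (hM : ∀ x ≠ 0, τ (τ x) = x → x ^ M = 1)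
    (hL : ∀ x ≠ 0, x * τ x * τ (τ x) = 1 → x ^ L = 1) :
    A ^ M = 1 ∨ A ^ L = 1 ∨ A ^ (p * N) = 1 ∨ (p = 2 ∧ A ^ 12 = 1) := by
  obtain ⟨a, b, c, h0, h1, h2⟩ := exists_roots A
  obtain ⟨h3, h4, h5⟩ := hτ a b c h0 h1 h2
  have hx : ∀ x ∈ [a, b, c], x ≠ 0 := by
    simp only [List.mem_cons, List.not_mem_nil, or_false, forall_eq_or_imp, forall_eq]
    refine ⟨?_, ?_, ?_⟩ <;> rintro rfl <;> simp at h0
  have H := @pow_eq_one_of_dvd _ _ A a b c h0 h1 h2
  rcases perm_cases τ h0 h3 h4 h5 with h | ⟨⟨hab, hac, hbc⟩, h⟩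
  · have ha := dvd_pow_sub_one (hN a (hx a (by simp)) (h a (by simp)))
    have hb := dvd_pow_sub_one (hN b (hx b (by simp)) (h b (by simp)))
    have hc := dvd_pow_sub_one (hN c (hx c (by simp)) (h c (by simp)))
    have h6 : (X ^ (p * N) - 1 : K[X]) = (X ^ N - 1) ^ p := by rw [sub_pow_char, ← pow_mul', one_pow]
    refine .inr (.inr ?_)
    rcases hp.out.two_le.eq_or_lt with e | e
    · by_cases hab : a = b
      · by_cases hac : a = c
        · refine .inr ⟨e.symm, H ?_⟩
          subst hab hac e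
          have h7 := pow_dvd_pow_of_dvd (dvd_pow_sub_one (N := 3) (a := a) (by linear_combination h0)) (2 ^ 2)
          rw [sub_pow_char_pow (X ^ 3), ← pow_mul, one_pow] at h7
          exact .trans (Dvd.intro (X - C a) (by ring)) h7
        · refine .inl (H ?_)
          rw [h6, ← e, sq, mul_right_comm]
          exact mul_dvd_mul ((coprime_sub hac).mul_dvd ha hc) hb
      · refine .inl (H ?_)
        rw [h6, ← e, sq]
        exact mul_dvd_mul ((coprime_sub hab).mul_dvd ha hb) hc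
    · refine .inl (H (h6 ▸ .trans ?_ (pow_dvd_pow _ e)))
      rw [pow_succ, sq]
      exact mul_dvd_mul (mul_dvd_mul ha hb) hc
  · have H' : ∀ {N}, (∀ x ∈ [a, b, c], x ^ N = 1) → A ^ N = 1 := fun h => H
      (((coprime_sub hac).mul_left (coprime_sub hbc)).mul_dvd ((coprime_sub hab).mul_dvd
        (dvd_pow_sub_one (h a (by simp))) (dvd_pow_sub_one (h b (by simp)))) (dvd_pow_sub_one (h c (by simp))))
    exact h.imp (fun h => H' fun x e => hM x (hx x e) (h x e)) fun h => .inl (H' fun x e => hL x (hx x e) (h x e))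

/-- The possible orders of the non-unipotent elements of `G₂(q)`. -/
def Ord (p q : ℕ) {G : Type*} [Monoid G] (g : G) : Prop :=
  g ^ (q ^ 2 - 1) = 1 ∨ g ^ (q ^ 2 + q + 1) = 1 ∨ g ^ (q ^ 2 - q + 1) = 1 ∨ g ^ (p * (q - 1)) = 1 ∨
    g ^ (p * (q + 1)) = 1 ∨ (p = 2 ∧ g ^ 12 = 1)

omit hp in
theorem ord_map_iff {q : ℕ} {G H : Type*} [Monoid G] [Monoid H] (f : G →* H) (hf : Function.Injective f) {g : G} :
    Ord p q (f g) ↔ Ord p q g := by
  simp only [Ord, ← map_pow, map_eq_one_iff f hf]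

theorem isConj_inv {G : Type*} [Group G] {a b : G} (h : IsConj a b) : IsConj a⁻¹ b⁻¹ :=
  let ⟨c, e⟩ := isConj_iff.1 h; isConj_iff.2 ⟨c, by simp [← e, mul_assoc]⟩

theorem trace_map {n L : Type*} [Fintype n] [DecidableEq n] [Field L] (σ : K →+* L) (A : SpecialLinearGroup n K) :
    (SpecialLinearGroup.map σ A).1.trace = σ A.1.trace := (AddMonoidHom.map_trace σ _).symm

theorem ord_sl [IsAlgClosed K] {σ : K →+* K} {q : ℕ} (hq : 0 < q) (hσ : ∀ x, σ x = x ^ q) {A : SL(3, K)}
    (h : IsConj A (SpecialLinearGroup.map σ A) ∨ IsConj (ctr A) (SpecialLinearGroup.map σ A)) : Ord p q A := by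
  obtain ⟨r, rfl⟩ := Nat.exists_eq_add_one_of_ne_zero hq.ne'
  have e1 : (r + 1) ^ 2 - 1 = r * (r + 2) := Nat.sub_eq_of_eq_add (by ring)
  have e2 : (r + 1) ^ 2 - (r + 1) = r * (r + 1) := Nat.sub_eq_of_eq_add (by ring)
  rw [Ord, e1, e2, Nat.add_sub_cancel]
  rcases h with h | h
  · have h1 := trace_eq_of_isConj h
    have h2 := trace_eq_of_isConj (isConj_inv h)
    rw [trace_map] at h1
    rw [← map_inv, trace_map] at h2
    have := pow_cases p (A := A) σ (N := r) (M := r * (r + 2)) (L := (r + 1) ^ 2 + (r + 1) + 1)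
      (fun a b c h0 h3 h4 => by
        rw [h3] at h1; rw [h4] at h2
        exact ⟨by simpa using h1.symm, by simpa using h2.symm, by simpa using congrArg σ h0⟩)
      (fun x hx h => mul_right_cancel₀ hx (by rw [hσ] at h; linear_combination h))
      (fun x hx h => mul_right_cancel₀ hx (by rw [hσ, hσ] at h; linear_combination h))
      fun x _ h => by rw [hσ, hσ] at h; linear_combination h
    tauto
  · have h1 := trace_eq_of_isConj h
    have h2 := trace_eq_of_isConj (isConj_inv h)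
    rw [trace_map, trace_ctr] at h1
    rw [← map_inv, ← map_inv, trace_map, trace_ctr, inv_inv] at h2
    have := pow_cases p (A := A) (fun x => (σ x)⁻¹) (N := r + 1 + 1) (M := r * (r + 2)) (L := r * (r + 1) + 1)
      (fun a b c h0 h3 h4 => by
        rw [h3, h4] at h1 h2
        have h5 := congrArg σ h0
        simp only [map_add, map_mul, map_one] at h1 h2 h5
        generalize σ a = x, σ b = y, σ c = z at *
        have hx : x ≠ 0 := by rintro rfl; simp at h5
        have hy : y ≠ 0 := by rintro rfl; simp at h5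
        have hz : z ≠ 0 := by rintro rfl; simp at h5
        rw [h1, h2]
        refine ⟨?_, ?_, ?_⟩ <;> field_simp
        · linear_combination -(x * y + y * z + z * x) * h5
        · linear_combination -(x + y + z) * h5
        · exact h5.symm)
      (fun x hx h => by rw [hσ, inv_eq_iff_eq_inv] at h; rw [pow_succ, h, inv_mul_cancel₀ hx])
      (fun x hx h => mul_right_cancel₀ hx (by rw [map_inv₀, inv_inv, hσ, hσ] at h; linear_combination h))
      fun x hx h => by
        rw [map_inv₀, inv_inv, hσ, hσ] at h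
        field_simp at h
        exact mul_right_cancel₀ (pow_ne_zero (r + 1) hx) (by linear_combination h)
    tauto

theorem pow_eq_smul_one_of_two {M : Matrix (Fin 2) (Fin 2) K} {d : K} {k : ℕ} (h : M ^ p ^ k = d ^ p ^ k • 1) :
    M ^ p = d ^ p • 1 := by
  have hc : Commute M (d • 1) := (Commute.one_right M).smul_right d
  have h1 := GLC.pow_finrank_eq_zero (f := toLin' (M - d • 1)) ⟨p ^ k, by
    rw [← GLC.toLin'_pow', sub_pow_char_pow_of_commute _ _ hc, h, _root_.smul_pow, one_pow, sub_self, map_zero]⟩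
  rw [← GLC.toLin'_pow', LinearEquiv.map_eq_zero_iff, finrank_fin_fun] at h1
  have h2 := pow_eq_zero_of_le hp.out.two_le h1
  rwa [sub_pow_char_of_commute _ hc, _root_.smul_pow, one_pow, sub_eq_zero] at h2

theorem pow_eq_one_of_gamR [IsAlgClosed K] {g : G2 K} {k N : ℕ} {B : SL(2, K)} (hB : (B.1 - 1).det ≠ 0)
    (h : g ^ p ^ k = psi (gamR B)) (hN : B ^ N = 1) : g ^ (p * N) = 1 := by
  obtain ⟨γ, rfl⟩ := exists_eq_psi_of_commute hB (h ▸ Commute.self_pow g _)
  obtain ⟨c, h1, h2⟩ := psi_eq_one_iff.1 (show psi ((γ ^ N) ^ p ^ k) = 1 by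
    rw [← pow_mul, mul_comm, pow_mul, map_pow, map_pow, h, ← map_pow, ← map_pow, hN, map_one, map_one])
  obtain ⟨d, rfl⟩ := IsAlgClosed.exists_pow_nat_eq c (pow_pos hp.out.pos k)
  rw [← map_pow, mul_comm, pow_mul]
  exact psi_eq_one_iff.2 ⟨_, pow_eq_smul_one_of_two p h1, pow_eq_smul_one_of_two p h2⟩

theorem det_dg_sub (b : K) (hb : b ≠ 0) (c : K) : ((dg b hb).1 - c • 1).det = (b - c) * (b⁻¹ - c) := by
  simp [dg, det_fin_two]

theorem dg_pow_eq_one {b : K} (hb : b ≠ 0) {N : ℕ} (h : b ^ N = 1) : dg b hb ^ N = 1 := by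
  have : (dg b hb).1 = diagonal ![b, b⁻¹] := by ext i j; fin_cases i <;> fin_cases j <;> simp [dg]
  refine Subtype.ext ?_
  rw [coe_pow', this, diagonal_pow]
  ext i j; fin_cases i <;> fin_cases j <;> simp [h]

omit [CharP K p] hp in
theorem eigen_of_conj (σ : K →+* K) {b : K} (h0 : b ≠ 0) (h1 : b ≠ 1) {n : G2 K}
    (h : n * psi (gamR (dg b h0)) * n⁻¹ = mapG σ (psi (gamR (dg b h0)))) : (b - σ b) * (b⁻¹ - σ b) = 0 := by
  by_contra h6
  obtain ⟨X, Y, hX⟩ := exists_cd (n⁻¹ • cd (F := K) 0 !![1, 0; 0, 0])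
  have h7 : psi (gamR (dg b h0)) • cd X Y = σ b • cd X Y := by
    rw [← hX, ← smul_smul', eq_inv_smul_iff, ← mul_smul, ← mul_smul, h, mapG_gamR, gamR_smul, cd_smul]
    refine cd_inj.2 ⟨by simp, ?_⟩
    ext i j; fin_cases i <;> fin_cases j <;> simp [dg, mul_apply, Fin.sum_univ_two]
  obtain rfl := eq_zero_of_gamR_smul (by rwa [det_dg_sub]) h7
  rw [gamR_smul, cd_smul, cd_inj, eq_comm, ← sub_eq_zero, ← one_smul K X, smul_smul, mul_one, ← sub_smul,
    smul_eq_zero, or_iff_right (sub_ne_zero.2 (by rwa [Ne, map_eq_one_iff σ σ.injective]))] at h7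
  rw [h7.1, cd_zero, smul_eq_zero_iff_eq, ← cd_zero, cd_inj] at hX
  simpa using congrFun (congrFun hX.2 0) 0

omit [CharP K p] in
/-- Upper bound for the element orders of `G₂(q)`. -/
theorem unip_or_ord {F : Type*} [Field F] [Finite F] [CharP F p] (g : G2 F) :
    (∃ k, g ^ p ^ k = 1) ∨ Ord p (Nat.card F) g := by
  cases nonempty_fintype F
  obtain ⟨k, m, hm, e⟩ := Nat.exists_eq_pow_mul_and_not_dvd (orderOf_pos g).ne' p hp.out.ne_one
  refine or_iff_not_imp_left.2 fun h1 => ?_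
  have hs : (g ^ p ^ k) ^ m = 1 := by rw [← pow_mul, ← e, pow_orderOf_eq_one]
  have hm' := mt (CharP.cast_eq_zero_iff F p m).1 hm
  let K := AlgebraicClosure F
  let φ := algebraMap F K
  let σ := (FiniteField.frobeniusAlgHom F K).toRingHom
  have hσ : ∀ x, σ x = x ^ Nat.card F := fun x => by rw [Nat.card_eq_fintype_card]; rfl
  have H : ∀ h : G2 K, ∃ f : G2 F →* G2 K, Function.Injective f ∧ (∀ x, f x = h * mapG φ x * h⁻¹) ∧
      ∃ n, ∀ x, n * f x * n⁻¹ = mapG σ (f x) := fun h =>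
    ⟨(MulAut.conj h).toMonoidHom.comp (mapG φ), (MulAut.conj h).injective.comp (mapG_injective φ), fun _ => rfl,
      mapG σ h * h⁻¹, fun x => by
        simp [mapG_mapG, show σ.comp φ = φ from (FiniteField.frobeniusAlgHom F K).comp_algebraMap, mul_assoc]⟩
  obtain ⟨h, D, hD⟩ := exists_conj_sl φ hs hm'
  by_cases h2 : (D.1 - 1).det = 0
  · obtain ⟨b, hb⟩ := IsAlgClosed.exists_root (C 1 * X ^ 2 + C (1 - D.1.trace) * X + C 1)
      (by rw [degree_quadratic one_ne_zero]; simp)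
    simp only [IsRoot.def, eval_add, eval_mul, eval_pow, eval_X, eval_C] at hb
    have h0 : b ≠ 0 := by rintro rfl; simp at hb
    obtain ⟨M, hM⟩ := isConj_iff.1 (isConj_up_dg (m := m) (sl_injective (by
      rw [map_pow, ← hD, conj_pow, ← map_pow, hs]; simp)) (by rwa [← map_natCast φ, _root_.map_ne_zero]) h2 h0
      (mul_left_cancel₀ h0 (by linear_combination -hb - mul_inv_cancel₀ h0)))
    obtain ⟨f, hf, h3, n, hn⟩ := H ((sl M)⁻¹ * h)
    have h4 : f (g ^ p ^ k) = psi (gamR (dg b h0)) := by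
      rw [h3, ← sl_up, _root_.mul_inv_rev, mul_assoc, mul_assoc, ← mul_assoc _ h⁻¹, ← mul_assoc h, ← mul_assoc h, hD, ← hM]
      simp [mul_assoc]
    have h5 : b ≠ 1 := fun e => h1 ⟨k, hf (by rw [h4, ← pow_one (dg _ _), dg_pow_eq_one h0 (by simp [e])]; simp)⟩
    have h6 := eigen_of_conj σ h0 h5 (n := n) (by rw [← h4, hn])
    have h7 := fun N hN => pow_eq_one_of_gamR p (N := N) (by
      rw [← one_smul K (1 : Matrix _ _ K), det_dg_sub]; simp [sub_eq_zero, h5]) ((map_pow f _ _).symm.trans h4) (dg_pow_eq_one h0 hN)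
    rw [← ord_map_iff p f hf]
    rw [mul_eq_zero, sub_eq_zero, sub_eq_zero, hσ] at h6
    refine .inr (.inr (.inr (h6.imp (fun e => h7 _ (mul_right_cancel₀ h0 ?_)) fun e => .inl (h7 _ ?_))))
    · rw [pow_sub_one_mul Nat.card_pos.ne', one_mul, ← e]
    · rw [pow_succ, ← e, inv_mul_cancel₀ h0]
  obtain ⟨f, hf, h3, n, hn⟩ := H h
  rw [← h3] at hD
  obtain ⟨A, hA⟩ := exists_sl_of_commute h2 (hD ▸ (Commute.self_pow g _).map f)
  have h4 := isConj_or_of_conj' (n := n) (A := D) (B := SpecialLinearGroup.map σ D) (by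
    have : ((SpecialLinearGroup.map σ D).1 - 1).det = σ (D.1 - 1).det := by
      rw [det_sub_one, det_sub_one, ← map_inv, trace_map, trace_map, map_sub]
    rwa [this, _root_.map_ne_zero]) (by rw [← hD, hn, hD, mapG_sl])
  rw [← ord_map_iff p f hf, ← hA, ord_map_iff p sl sl_injective]
  exact ord_sl p Nat.card_pos hσ ((isConj_or_of_conj (h4.imp And.left And.left)
    (by rw [hA, hn, ← hA, mapG_sl])).imp And.right And.right)

theorem pow_eq_one_of_unip {g : G2 K} {k j : ℕ} (h : g ^ p ^ k = 1) (hj : 8 ≤ p ^ j ∨ (p ≠ 2 ∧ 7 ≤ p ^ j)) :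
    g ^ p ^ j = 1 := by
  have h1 : IsNilpotent (lin g - 1) := ⟨_, (GLC.pow_char_pow_eq_one_iff p k).1 (by rw [← map_pow, h, map_one])⟩
  refine lin_injective ?_
  rw [map_pow, map_one, GLC.pow_char_pow_eq_one_iff]
  rcases hj with hj | ⟨h2, hj⟩
  · exact pow_eq_zero_of_le (by simpa using hj) (GLC.pow_finrank_eq_zero h1)
  have h3 : (2 : K) ≠ 0 := fun e =>
    h2 ((Nat.prime_dvd_prime_iff_eq hp.out Nat.prime_two).1 ((CharP.cast_eq_zero_iff K p 2).1 e))
  have h7 : (lin g - 1) (one K) = 0 := by simp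
  have h4 : ∀ x ∈ LinearMap.ker (tr (R := K)), (lin g - 1) x ∈ LinearMap.ker (tr (R := K)) := fun x _ => by simp
  generalize lin g - 1 = N at h1 h4 h7
  have h5 := GLC.pow_finrank_eq_zero (End.isNilpotent.restrict h4 h1)
  have h6 : finrank K (LinearMap.ker (tr (R := K))) + 1 = 8 := by
    simpa using Module.Dual.finrank_ker_add_one_of_ne_zero (f := tr (R := K)) fun e => by
      simpa [e] using tr_e0 (R := K)
  rw [show finrank K (LinearMap.ker (tr (R := K))) = 6 + 1 by omega, End.pow_restrict] at h5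
  refine pow_eq_zero_of_le hj (LinearMap.ext fun x => ?_)
  have h8 := congrArg Subtype.val
    (LinearMap.congr_fun h5 ⟨x - (2⁻¹ * tr x) • one K, by simp [h3, mul_comm, ← mul_assoc]⟩)
  rw [LinearMap.coe_restrict_apply, map_sub, map_smul, pow_succ N 6, End.mul_apply _ _ (one K), h7, map_zero,
    smul_zero, sub_zero] at h8
  exact h8

end Cfsg.Lib.Oct
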